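import Groth.Agent.BlowP1.Sections
import Groth.Agent.RegBlow6.Geometry
import Groth.Agent.RelVA16.BlowUpProj
import Groth.Agent.S8914
import Mathlib

/-! The blow-up of a finitely generated ideal of a ring, embedded by its generators. -/

set_option autoImplicit false
set_option linter.style.haveILetI false
set_option backward.isDefEq.respectTransparency false
set_option backward.isDefEq.respectTransparency.types false
set_option maxHeartbeats 800000

universe u

open CategoryTheory CategoryTheory.Limits AlgebraicGeometry TopologicalSpace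
open Groth.Agent.InvX Groth.Agent.H23

noncomputable section

namespace Groth.Agent.BlowP1

open BlowUpLib RegBlow6

variable {A : Type u} [CommRing A] {X : Scheme.{u}} (b : X ⟶ Spec (CommRingCat.of A))

theorem res_strHom {U V : X.Opens} (h : V ≤ U) (c : A) :
    AModX.resR h (strHom b U c) = strHom b V c := by
  show (((Scheme.ΓSpecIso (CommRingCat.of A)).inv ≫ b.appLE ⊤ U le_top) ≫ X.presheaf.map (homOfLE h).op).hom c = _
  rw [Category.assoc, Scheme.Hom.appLE_map]
  rfl

variable {n : ℕ} (a : Fin (n + 1) → A)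

/-- The image of a chart: the ideal is generated by one generator and the functions by the ratios. -/
theorem exists_chart_image (hb : BlowUp.IsBlowUp b (centre (cI a))) (e : localBlowUp (cI a) ≅ X)
    (he : e.hom ≫ b = toBase (cI a)) (k : Fin (n + 1)) :
    ∃ U : X.affineOpens, (∀ x, x ∈ U.1 ↔ e.inv x ∈ (chart (cI a) ⟨a k, mem_cI a k⟩).opensRange) ∧
      ((centre (cI a)).comap b).ideal U = Ideal.span {strHom b U.1 (a k)} ∧
      ∀ S : Subring Γ(X, U.1), (∀ c, strHom b U.1 c ∈ S) →
        (∀ l z, z * strHom b U.1 (a k) = strHom b U.1 (a l) → z ∈ S) → S = ⊤ := by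
  let j := chart (cI a) ⟨a k, mem_cI a k⟩ ≫ e.hom
  let U : X.Opens := j.opensRange
  have hU : IsAffineOpen U := isAffineOpen_opensRange j
  have hmem : ∀ x, x ∈ U ↔ e.inv x ∈ (chart (cI a) ⟨a k, mem_cI a k⟩).opensRange := fun x => by
    constructor
    · rintro ⟨v, rfl⟩
      refine ⟨v, ?_⟩
      show _ = e.inv (j v)
      rw [← Scheme.Hom.comp_apply, Category.assoc, e.hom_inv_id, Category.comp_id]
    · rintro ⟨v, hv⟩
      refine ⟨v, ?_⟩
      show e.hom (chart (cI a) ⟨a k, mem_cI a k⟩ v) = x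
      rw [hv, ← Scheme.Hom.comp_apply, e.inv_hom_id]
      rfl
  have hrange : Set.range hU.fromSpec = Set.range j := by
    rw [hU.range_fromSpec]; rfl
  let ε : Spec Γ(X, U) ≅ Spec (CommRingCat.of (chartAlg a k)) := IsOpenImmersion.isoOfRangeEq hU.fromSpec j hrange
  obtain ⟨ψ, hψ⟩ := Spec.map_surjective ε.hom
  haveI : IsIso (Spec.map ψ) := by rw [hψ]; infer_instance
  have hψb : Function.Bijective ψ := isIso_SpecMap_iff.1 (inferInstanceAs (IsIso (Spec.map ψ)))
  have hφ : ψ.hom.comp (algebraMap A (chartAlg a k)) = strHom b U := by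
    have h1 : Spec.map ψ ≫ j ≫ b = Spec.map (CommRingCat.ofHom (strHom b U)) := by
      rw [SpecMap_strHom b ⟨U, hU⟩, hψ, ← Category.assoc]
      congr 1
      exact IsOpenImmersion.lift_fac _ _ _
    rw [show j ≫ b = Spec.map (CommRingCat.ofHom (algebraMap A (chartAlg a k))) by
      rw [Category.assoc, he, chart_toBase], ← Spec.map_comp] at h1
    exact congrArg CommRingCat.Hom.hom (Spec.map_injective h1)
  have hφ' : ∀ c, ψ.hom (algebraMap A (chartAlg a k) c) = strHom b U c := fun c => RingHom.congr_fun hφ c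
  refine ⟨⟨U, hU⟩, hmem, ?_, fun S h1 h2 => top_le_iff.1 fun y hy => ?_⟩
  · rw [ideal_comap_centre, ← hφ, ← Ideal.map_map, show (cI a).map (algebraMap A (chartAlg a k)) = exc a k from rfl,
      exc_eq, Ideal.map_span, Set.image_singleton]
    rfl
  · clear hy
    obtain ⟨z, rfl⟩ := hψb.2 y
    obtain ⟨f, rfl⟩ := pres_surjective a k z
    induction f using MvPolynomial.induction_on with
    | C c =>
      rw [pres, MvPolynomial.aeval_C]
      exact (hφ' c).symm ▸ h1 c
    | add p q hp hq =>
      rw [map_add, map_add]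
      exact S.add_mem hp hq
    | mul_X p l hp =>
      rw [map_mul, map_mul, pres, MvPolynomial.aeval_X]
      refine S.mul_mem hp (h2 l.1 _ ?_)
      show ψ.hom (coord a k l) * strHom b U (a k) = _
      rw [← hφ', ← map_mul, coord_mul, hφ']

/-- A global section of the exceptional ideal for every element of the centre. -/
theorem exists_sect {c : A} (hc : c ∈ cI a) :
    ∃ s : Γ(ClSub.idealMod ((centre (cI a)).comap b), ⊤), ∀ V : X.Opens,
      OmegaSh.idealSect _ V (AModX.res _ (le_top : V ≤ ⊤) s) = strHom b V c := by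
  obtain ⟨t, ht⟩ := OmegaLib.exists_of_mem (centre (cI a)) ⟨⊤, isAffineOpen_top _⟩
    ((Scheme.ΓSpecIso (CommRingCat.of A)).inv c) (by rw [centre_top]; exact Ideal.mem_map_of_mem _ hc)
  refine ⟨RelVA16.thv (RelVA16.blowTheta _ b) (U := ⊤) (W := ⊤) (le_of_eq rfl) t, fun V => ?_⟩
  rw [show OmegaSh.idealSect _ V (AModX.res _ (le_top : V ≤ ⊤) _) = _ from OmegaLib.idealSect_map _ le_top _,
    RelVA16.idealSect_thv, ht]
  exact res_strHom b (U := ⊤) le_top c

/-- A section whose value generates the ideal on an affine open is a frame there. -/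
theorem isFrame_of_generator {K : X.IdealSheafData} (hK : BlowUp.IsEffCartierIdeal K) (U : X.affineOpens)
    {s : Γ(ClSub.idealMod K, U.1)} (h : K.ideal U = Ideal.span {OmegaSh.idealSect K U.1 s}) : IsFrame s := by
  refine TrivBasic.isFrame_of_germwise fun x hx => ?_
  obtain ⟨W₀, hxW₀, e₀, he₀⟩ := InvX.exists_frame ((S8914.result K).2 hK) x
  obtain ⟨V, hV, hxV, hVle⟩ := exists_isAffineOpen_mem_and_subset (show x ∈ W₀ ⊓ U.1 from ⟨hxW₀, hx⟩)
  have hVU : V ≤ U.1 := hVle.trans inf_le_right
  refine ⟨V, hVU, hxV, ?_⟩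
  let e := AModX.res _ (hVle.trans inf_le_left) e₀
  have he : IsFrame e := he₀.res _
  obtain ⟨c, hc⟩ := he.exists_coord le_rfl (AModX.res _ hVU s)
  rw [AModX.res_self] at hc
  have hmem := OmegaLib.idealSect_mem K ⟨V, hV⟩ e
  rw [← K.map_ideal (U := ⟨V, hV⟩) (V := U) hVU, h, Ideal.map_span, Set.image_singleton,
    Ideal.mem_span_singleton'] at hmem
  obtain ⟨d, hd⟩ := hmem
  have hde : d • AModX.res _ hVU s = e := by
    refine OmegaLib.idealSect_injective K V ?_
    rw [OmegaLib.idealSect_smul, show OmegaSh.idealSect K V (AModX.res _ hVU s) = _ from OmegaLib.idealSect_map K hVU s]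
    exact hd
  rw [hc, smul_smul] at hde
  have hu : d * c = 1 := he.coord_unique le_rfl (by rw [AModX.res_self, one_smul]; exact hde)
  rw [hc]
  exact he.isUnit_smul (IsUnit.of_mul_eq_one d (by rw [mul_comm]; exact hu))

/-- The embedding data of the blow-up. -/
theorem exists_data (hb : BlowUp.IsBlowUp b (centre (cI a))) :
    ∃ (e : localBlowUp (cI a) ≅ X) (_ : e.hom ≫ b = toBase (cI a))
      (s : Fin (n + 1) → Γ(ClSub.idealMod ((centre (cI a)).comap b), ⊤)),
      (∀ k x, x ∈ TrivBasic.locus (s k) ↔ e.inv x ∈ (chart (cI a) ⟨a k, mem_cI a k⟩).opensRange) ∧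
      (∀ y, ∃ k, y ∈ TrivBasic.locus (s k)) ∧ (∀ k, IsAffineOpen (TrivBasic.locus (s k))) ∧
      ∀ k (S : Subring Γ(X, TrivBasic.locus (s k))),
        (∀ c, strHom b (TrivBasic.locus (s k)) c ∈ S) →
        (∀ l z, AModX.res _ (le_top : TrivBasic.locus (s k) ≤ ⊤) (s l) =
          z • AModX.res _ (le_top : TrivBasic.locus (s k) ≤ ⊤) (s k) → z ∈ S) → S = ⊤ := by
  obtain ⟨e, he⟩ := exists_iso (isBlowUp_local (cI a)) hb
  have he' : e.inv ≫ toBase (cI a) = b := by rw [← he, e.inv_hom_id_assoc]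
  choose s hs using fun k => exists_sect b a (mem_cI a k)
  choose U hU hI hg using exists_chart_image b a hb e he
  have hloc : ∀ k, TrivBasic.locus (s k) = (U k).1 := fun k => le_antisymm (fun x hx => by
    obtain ⟨W, hW, hxW, hWle⟩ := exists_isAffineOpen_mem_and_subset hx
    have hfr := TrivBasic.isFrame_res_of_le_locus (U := W) hWle
    refine (hU k x).2 (range_subset_chart (cI a) hb.1 e.inv he' ⟨a k, mem_cI a k⟩ ⟨W, hW⟩ (le_antisymm ?_ ?_) x hxW)
    · intro z hz
      obtain ⟨t, rfl⟩ := OmegaLib.exists_of_mem _ ⟨W, hW⟩ z hz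
      obtain ⟨c, hc⟩ := hfr.exists_coord le_rfl t
      rw [AModX.res_self] at hc
      rw [hc, OmegaLib.idealSect_smul, hs]
      exact Ideal.mul_mem_left _ _ (Ideal.mem_span_singleton_self _)
    · rw [Ideal.span_singleton_le_iff_mem, ← hs k W]
      exact OmegaLib.idealSect_mem _ ⟨W, hW⟩ _)
    (TrivBasic.le_locus (isFrame_of_generator hb.1 (U k) (by rw [hs]; exact hI k)))
  refine ⟨e, he, s, fun k x => by rw [hloc]; exact hU k x, fun y => ?_, fun k => hloc k ▸ (U k).2, fun k => ?_⟩
  · obtain ⟨k, hk⟩ := chart_covers_gens a (e.inv y)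
    exact ⟨k, by rw [hloc]; exact (hU k y).2 hk⟩
  · rw [hloc]
    refine fun S h1 h2 => hg k S h1 fun l z hz => h2 l z (OmegaLib.idealSect_injective _ _ ?_)
    rw [OmegaLib.idealSect_smul, hs, hs, hz]

end Groth.Agent.BlowP1
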