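import Groth.Agent.BlowP1.Chart
import Groth.Agent.Contraction7.Fibre
import Groth.Agent.CurveCover.Line
import Groth.Agent.CurveEmbed.Line
import Mathlib

/-! The exceptional curve of the blow-up of a regular surface at a point is a projective line. -/

set_option autoImplicit false
set_option linter.style.haveILetI false
set_option backward.isDefEq.respectTransparency false
set_option backward.isDefEq.respectTransparency.types false
set_option maxHeartbeats 800000

universe u

open CategoryTheory CategoryTheory.Limits AlgebraicGeometry TopologicalSpace IsLocalRing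
open Groth.Agent.InvX Groth.Agent.H23

noncomputable section

namespace Groth.Agent.BlowP1

open BlowUpLib RegBlow6

theorem strHom_comp_app {A : Type u} [CommRing A] {Y X : Scheme.{u}} (g : Y ⟶ X)
    (b : X ⟶ Spec (CommRingCat.of A)) (U : X.Opens) (c : A) :
    (g.app U).hom (strHom b U c) = strHom (g ≫ b) (g ⁻¹ᵁ U) c := by
  show (((Scheme.ΓSpecIso (CommRingCat.of A)).inv ≫ b.appLE ⊤ U le_top) ≫ g.app U).hom c = _
  rw [Category.assoc, Scheme.Hom.app_eq_appLE, Scheme.Hom.appLE_comp_appLE]
  rfl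

theorem strHom_comp_specMap {A B : Type u} [CommRing A] [CommRing B] {Y : Scheme.{u}}
    (q : Y ⟶ Spec (CommRingCat.of B)) (φ : A →+* B) (U : Y.Opens) (c : A) :
    strHom (q ≫ Spec.map (CommRingCat.ofHom φ)) U c = strHom q U (φ c) := by
  have h : (Scheme.ΓSpecIso (CommRingCat.of A)).inv ≫
      (Spec.map (CommRingCat.ofHom φ)).appLE ⊤ ⊤ le_top = CommRingCat.ofHom φ ≫ (Scheme.ΓSpecIso (CommRingCat.of B)).inv := by
    rw [Scheme.ΓSpecIso_inv_naturality]
    congr 1
  show ((Scheme.ΓSpecIso (CommRingCat.of A)).inv ≫ (q ≫ Spec.map (CommRingCat.ofHom φ)).appLE ⊤ U le_top).hom c = _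
  rw [← Scheme.Hom.appLE_comp_appLE q (Spec.map (CommRingCat.ofHom φ)) ⊤ ⊤ U le_top le_top, reassoc_of% h]
  rfl

/-- Two generators of the maximal ideal, a quasi-regular sequence. -/
theorem exists_gens {A : Type u} [CommRing A] [IsRegularLocalRing A] (hA : ringKrullDim A = 2) :
    ∃ a : Fin (1 + 1) → A, cI a = maximalIdeal A ∧ CAlgX.IsQuasiRegular a := by
  classical
  haveI : IsDomain A := RegLoc6.isDomain_of_isRegularLocalRing A
  have h2 : (maximalIdeal A).spanFinrank = 2 := by
    have h := IsRegularLocalRing.spanFinrank_maximalIdeal (R := A)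
    rw [hA] at h
    exact_mod_cast h
  obtain ⟨G, hG, hspan⟩ := Submodule.FG.exists_span_finset_card_eq_spanFinrank (IsNoetherian.noetherian (maximalIdeal A))
  rw [h2, Finset.card_eq_two] at hG
  obtain ⟨x, y, -, rfl⟩ := hG
  simp only [Finset.coe_insert, Finset.coe_singleton] at hspan
  let a : Fin 2 → A := ![x, y]
  have hI : cI a = maximalIdeal A := by
    show Ideal.span (Set.range ![x, y]) = _
    rw [Matrix.range_cons_cons_empty]
    exact hspan
  have hxm : x ∈ maximalIdeal A := by rw [← hI]; exact mem_cI a 0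
  have hym : y ∈ maximalIdeal A := by rw [← hI]; exact mem_cI a 1
  have hlow : ∀ z ∈ maximalIdeal A, ¬ maximalIdeal A ≤ Ideal.span {z} ⊔ maximalIdeal A ^ 2 := fun z hzu hz => by
    have hzm : ¬ maximalIdeal A ≤ Ideal.span {z} := fun hle => by
      have heq : Submodule.span A {z} = maximalIdeal A :=
        le_antisymm ((Submodule.span_singleton_le_iff_mem _ _).2 hzu) hle
      have h := Submodule.spanFinrank_span_le_ncard_of_finite (R := A) (M := A) (Set.finite_singleton z)
      rw [heq, h2, Set.ncard_singleton] at h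
      omega
    refine hzm (Submodule.le_of_le_smul_of_le_jacobson_bot (IsNoetherian.noetherian _)
      (IsLocalRing.maximalIdeal_le_jacobson ⊥) ?_)
    rw [smul_eq_mul, ← sq]
    exact hz
  have hx2 : x ∉ maximalIdeal A ^ 2 := fun h => hlow y hym (by
    have h0 : maximalIdeal A = Ideal.span {x, y} := hspan.symm
    rw [h0, Ideal.span_le]
    rintro w (rfl | rfl)
    · rw [← h0]; exact Submodule.mem_sup_right h
    · exact Submodule.mem_sup_left (Ideal.mem_span_singleton_self _))
  have hxy : y ∉ Ideal.span {x} := fun h => hlow x hxm (by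
    have h0 : maximalIdeal A = Ideal.span {x, y} := hspan.symm
    refine le_trans ?_ le_sup_left
    rw [h0, Ideal.span_le]
    rintro w (rfl | rfl)
    · exact Ideal.mem_span_singleton_self _
    · exact h)
  haveI := (RegLoc6.isRegularLocalRing_quot_and hxm hx2).1
  haveI : IsDomain (A ⧸ Ideal.span {x}) := RegLoc6.isDomain_of_isRegularLocalRing _
  haveI hxp : (Ideal.span {x}).IsPrime := (Ideal.Quotient.isDomain_iff_prime _).1 inferInstance
  have hx0 : x ≠ 0 := fun h => hx2 (h ▸ zero_mem _)
  have hH1 : CAlgX.IsH1Regular a := by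
    intro r hr
    rw [Fin.sum_univ_two] at hr
    change r 0 * x + r 1 * y = 0 at hr
    have h1 : r 1 * y ∈ Ideal.span {x} := by
      rw [show r 1 * y = -(r 0) * x by linear_combination hr]
      exact Ideal.mul_mem_left _ _ (Ideal.mem_span_singleton_self x)
    obtain ⟨w, hw⟩ := Ideal.mem_span_singleton'.1 ((hxp.mem_or_mem h1).resolve_right hxy)
    have h0 : r 0 = -(w * y) := by
      refine mul_right_cancel₀ hx0 ?_
      rw [← hw] at hr
      linear_combination hr
    have hr' : r = w • (Pi.single (1 : Fin 2) (a 0) - Pi.single (0 : Fin 2) (a 1)) := by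
      funext i
      fin_cases i <;> simp [a, h0, ← hw]
    rw [hr']
    exact Submodule.smul_mem _ _ (Submodule.subset_span ⟨1, 0, rfl⟩)
  exact ⟨a, hI, CAlgOdd.H1Regular.isQuasiRegular a hH1⟩

/-- The exceptional ideal of a chart is not maximal. -/
theorem not_isMaximal_exc {A : Type u} [CommRing A] (a : Fin 2 → A) (k : Fin 2)
    (hq : CAlgX.IsQuasiRegular a) (hmax : (cI a).IsMaximal) : ¬ (exc a k).IsMaximal := by
  classical
  intro hM
  have hlk : (1 - k) ≠ k := by omega
  let ψ : MvPolynomial {j // j ≠ k} (A ⧸ cI a) →+* chartAlg a k ⧸ exc a k :=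
    MvPolynomial.eval₂Hom (excHom a k) fun j => Ideal.Quotient.mk _ (coord a k j)
  have hmk : ψ.comp (MvPolynomial.map (Ideal.Quotient.mk (cI a))) =
      (Ideal.Quotient.mk (exc a k)).comp (pres a k).toRingHom := by
    refine MvPolynomial.ringHom_ext (fun r => ?_) fun j => ?_
    · simp [ψ, pres]
    · simp [ψ, pres]
  have hbij : Function.Bijective ψ := by
    refine ⟨(injective_iff_map_eq_zero _).2 fun g hg => ?_, fun z => ?_⟩
    · obtain ⟨f, rfl⟩ := MvPolynomial.map_surjective _ Ideal.Quotient.mk_surjective g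
      have h1 : Ideal.Quotient.mk (exc a k) (pres a k f) = 0 := (RingHom.congr_fun hmk f).symm.trans hg
      rw [Ideal.Quotient.eq_zero_iff_mem, exc_eq, Ideal.mem_span_singleton'] at h1
      obtain ⟨q, hqe⟩ := h1
      obtain ⟨g', rfl⟩ := pres_surjective a k q
      have h2 : pres a k (f - g' * MvPolynomial.C (a k)) = 0 := by
        rw [map_sub, map_mul, ← hqe, pres, MvPolynomial.aeval_C, sub_self]
      ext e
      rw [MvPolynomial.coeff_map, MvPolynomial.coeff_zero, Ideal.Quotient.eq_zero_iff_mem]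
      have h3 := coeff_mem_of_pres_eq_zero hq h2 e
      rw [MvPolynomial.coeff_sub, mul_comm g', MvPolynomial.coeff_C_mul] at h3
      simpa using add_mem h3 (Ideal.mul_mem_right (g'.coeff e) _ (mem_cI a k))
    · obtain ⟨z, rfl⟩ := Ideal.Quotient.mk_surjective z
      obtain ⟨f, rfl⟩ := pres_surjective a k z
      exact ⟨MvPolynomial.map _ f, RingHom.congr_fun hmk f⟩
  haveI := hmax
  letI : Field (A ⧸ cI a) := Ideal.Quotient.field _
  haveI := hM
  have hF : IsField (chartAlg a k ⧸ exc a k) := (Ideal.Quotient.maximal_ideal_iff_isField_quotient _).1 hM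
  letI : Unique {j // j ≠ k} :=
    { default := ⟨1 - k, hlk⟩
      uniq := fun j => Subtype.ext (by
        obtain ⟨j, hj⟩ := j
        show j = 1 - k
        omega) }
  let e2 : Polynomial (A ⧸ cI a) ≃+* chartAlg a k ⧸ exc a k :=
    (MvPolynomial.uniqueAlgEquiv (A ⧸ cI a) {j // j ≠ k}).toRingEquiv.symm.trans (RingEquiv.ofBijective ψ hbij)
  exact Polynomial.not_isField _ (MulEquiv.isField hF e2.toMulEquiv)

/-- The blow-up of a regular surface at a point: embedding and exceptional curve. -/
theorem main {A : Type u} [CommRing A] [IsRegularLocalRing A] (hA : ringKrullDim A = 2)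
    {X : Scheme.{u}} (b : X ⟶ Spec (CommRingCat.of A)) (hb : BlowUp.IsBlowUp b (centre (maximalIdeal A))) :
    (∃ r : X ⟶ CohB1.ProjSpace 1 A, IsClosedImmersion r ∧ r ≫ CohB1.ProjSpace.toSpec 1 A = b ∧
      Nonempty ((Scheme.Modules.pullback r).obj (Twist.twistProjSpace 1 A 1) ≅
        ClSub.idealMod ((centre (maximalIdeal A)).comap b))) ∧
    Models.IsExcCurve ((centre (maximalIdeal A)).comap b).subschemeι := by
  obtain ⟨a, hI, hq⟩ := exists_gens hA
  have hmax : (cI a).IsMaximal := hI ▸ IsLocalRing.maximalIdeal.isMaximal A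
  rw [← hI] at hb ⊢
  obtain ⟨e, he, s, hU, hcov, haff, hgen⟩ := exists_data b a hb
  let K := (centre (cI a)).comap b
  have hL : PicF.IsInvertible (ClSub.idealMod K) := (S8914.result K).2 hb.1
  refine ⟨exists_closedImmersion_of_sections b hL 1 s hcov haff hgen, ?_⟩
  refine ⟨by rw [Scheme.IdealSheafData.ker_subschemeι]; exact hb.1, A ⧸ cI a, Ideal.Quotient.field _, ?_⟩
  letI : Field (A ⧸ cI a) := Ideal.Quotient.field _
  let ι := K.subschemeι
  let ιA : Spec (CommRingCat.of (A ⧸ cI a)) ⟶ Spec (CommRingCat.of A) :=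
    Spec.map (CommRingCat.ofHom (Ideal.Quotient.mk (cI a)))
  haveI : IsClosedImmersion ιA := IsClosedImmersion.spec_of_surjective _ Ideal.Quotient.mk_surjective
  have hle : ιA.ker ≤ (ι ≫ b).ker := by
    rw [ker_specMk, ← Scheme.IdealSheafData.map_ker, Scheme.IdealSheafData.le_map_iff_comap_le,
      Scheme.IdealSheafData.ker_subschemeι]
  let q := IsClosedImmersion.lift ιA (ι ≫ b) hle
  have hq' : q ≫ ιA = ι ≫ b := IsClosedImmersion.lift_fac _ _ _
  let L := (Scheme.Modules.pullback ι).obj (ClSub.idealMod K)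
  have hLE : PicF.IsInvertible L := PicClLib.isInvertible_pullback ι hL
  let t : Fin (1 + 1) → Γ(L, ⊤) := fun k => InvX.pullElt ι (s k)
  have hloc : ∀ k, TrivBasic.locus (t k) = ι ⁻¹ᵁ TrivBasic.locus (s k) := fun k => TrivBasic.locus_pullElt hL ι (s k)
  obtain ⟨rE, hrE, -, ⟨τ⟩⟩ := exists_closedImmersion_of_sections q hLE 1 t
    (fun y => (hcov (ι y)).imp fun k hk => by rw [hloc]; exact hk)
    (fun k => by rw [hloc]; exact (haff k).preimage ι) fun k => by
      rw [hloc]
      intro S h1 h2
      let φ := (ι.app (TrivBasic.locus (s k))).hom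
      have hφ : Function.Surjective φ := ι.app_surjective _ (haff k)
      refine top_le_iff.1 fun y hy => ?_
      clear hy
      obtain ⟨x, rfl⟩ := hφ y
      have hS : S.comap φ = ⊤ := hgen k _ (fun c => ?_) fun l z hz => ?_
      · exact (show x ∈ S.comap φ by rw [hS]; trivial)
      · have := h1 (Ideal.Quotient.mk _ c)
        rw [← strHom_comp_specMap q (Ideal.Quotient.mk (cI a)) _ c] at this
        show φ _ ∈ S
        rw [show φ _ = strHom (ι ≫ b) _ c from strHom_comp_app ι b _ c, ← hq']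
        exact this
      · refine h2 l _ ?_
        refine (InvX.res_pullElt ι (le_top : TrivBasic.locus (s k) ≤ ⊤) (s l)).trans ?_
        rw [hz, InvX.pullElt_smul]
        exact congrArg (ι.app (TrivBasic.locus (s k)) z • ·) (InvX.res_pullElt ι le_top (s k)).symm
  haveI := hrE
  -- the generic point is in the image
  haveI : IsIntegral (CohB1.ProjSpace 1 (A ⧸ cI a)) := H23.PnChart.isIntegral_projSpace 1 _
  have hexp := (Contraction7.exc_chart a 0 1 (by omega) hq hmax).1
  obtain ⟨M, hM, hle'⟩ := Ideal.exists_le_maximal _ hexp.ne_top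
  let z₀ : PrimeSpectrum (chartAlg a 0) := ⟨exc a 0, hexp⟩
  let z₁ : PrimeSpectrum (chartAlg a 0) := ⟨M, hM.isPrime⟩
  let j := chart (cI a) ⟨a 0, mem_cI a 0⟩ ≫ e.hom
  have hrg : ∀ P : PrimeSpectrum (chartAlg a 0), exc a 0 ≤ P.asIdeal → j P ∈ Set.range ι := fun P hP => by
    rw [Scheme.IdealSheafData.range_subschemeι, Scheme.IdealSheafData.support_comap]
    show (j ≫ b) P ∈ (centre (cI a)).support
    rw [Category.assoc, he, chart_toBase, ← ker_specMk]
    show _ ∈ ((Spec.map (CommRingCat.ofHom (Ideal.Quotient.mk (cI a)))).ker.support : Set (Spec (CommRingCat.of A)))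
    rw [Scheme.Hom.support_ker]
    refine subset_closure ⟨⟨⊥, Ideal.isPrime_bot⟩, PrimeSpectrum.ext ?_⟩
    show (⊥ : Ideal (A ⧸ cI a)).comap (Ideal.Quotient.mk (cI a)) = P.asIdeal.comap _
    rw [← RingHom.ker_eq_comap_bot, Ideal.mk_ker]
    exact hmax.eq_of_le (Ideal.IsPrime.ne_top inferInstance) (Ideal.map_le_iff_le_comap.1 hP)
  obtain ⟨w₀, hw₀⟩ := hrg z₀ le_rfl
  obtain ⟨w₁, hw₁⟩ := hrg z₁ hle'
  have hjsp : j z₀ ⤳ j z₁ := ((PrimeSpectrum.le_iff_specializes z₀ z₁).1 hle').map j.continuous
  have hsp : w₀ ⤳ w₁ := ι.isClosedEmbedding.isInducing.specializes_iff.1 (by rw [hw₀, hw₁]; exact hjsp)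
  have hne : w₀ ≠ w₁ := fun h => not_isMaximal_exc a 0 hq hmax (by
    have h' : j z₀ = j z₁ := by rw [← hw₀, ← hw₁, h]
    have h'' := congrArg PrimeSpectrum.asIdeal (j.isOpenEmbedding.injective h')
    exact (show exc a 0 = M from h'') ▸ hM)
  have hnc : ¬ IsClosed ({rE w₀} : Set (CohB1.ProjSpace 1 (A ⧸ cI a))) := fun h =>
    hne (rE.isClosedEmbedding.injective (((hsp.map rE.continuous).mem_closed h rfl).symm))
  haveI : Surjective rE := ⟨fun y => (show y ∈ Set.range rE from
    ((genericPoint_spec (CohB1.ProjSpace 1 (A ⧸ cI a))).specializes (Set.mem_univ y)).mem_closed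
      rE.isClosedEmbedding.isClosed_range
      ⟨w₀, by
        haveI : IsProper (CohB1.ProjSpace.toSpec 1 (A ⧸ cI a)) := PnCoh.Chow.isProper_toSpec 1 _
        haveI : CompactSpace ↥(CohB1.ProjSpace 1 (A ⧸ cI a)) :=
          QuasiCompact.compactSpace_of_compactSpace (CohB1.ProjSpace.toSpec 1 (A ⧸ cI a))
        exact CurveCohLib.eq_genericPoint_of_not_isClosed (CurveCover.dim_line _) hnc⟩)⟩
  haveI := isIso_of_isClosedImmersion_of_surjective rE
  refine ⟨(asIso rE).symm, ⟨?_⟩⟩
  rw [Scheme.IdealSheafData.ker_subschemeι]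
  refine ((Scheme.Modules.pullbackComp _ ι).app _).symm ≪≫ (Scheme.Modules.pullback _).mapIso τ.symm ≪≫
    (Scheme.Modules.pullbackComp _ rE).app _ ≪≫ (Scheme.Modules.pullbackCongr (asIso rE).inv_hom_id).app _ ≪≫
    (Scheme.Modules.pullbackId _).app _

end Groth.Agent.BlowP1
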