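import Groth.Agent.Lib.AmpleEmbed
import Groth.Agent.Lib.PnChart
import Groth.Agent.BlowUpLib.Local
import Groth.Agent.RelVA16.FTGen
import Groth.Agent.H23.TrivBasic
import Mathlib

/-! Closed immersions into projective space given by sections with affine loci. -/

set_option autoImplicit false
set_option linter.style.haveILetI false
set_option backward.isDefEq.respectTransparency false
set_option backward.isDefEq.respectTransparency.types false
set_option maxHeartbeats 800000

universe u

open CategoryTheory CategoryTheory.Limits AlgebraicGeometry TopologicalSpace HomogeneousLocalization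
open Groth.Agent.InvX Groth.Agent.H23

noncomputable section

namespace Groth.Agent.BlowP1

/-- Sections whose affine loci cover and whose ratios generate the rings of the loci give a closed immersion. -/
theorem exists_closedImmersion_of_sections {R : Type u} [CommRing R] {Y : Scheme.{u}}
    (q : Y ⟶ Spec (CommRingCat.of R)) {L : Y.Modules} (hL : PicF.IsInvertible L) (n : ℕ)
    (s : Fin (n + 1) → Γ(L, ⊤)) (hcov : ∀ y, ∃ k, y ∈ TrivBasic.locus (s k))
    (haff : ∀ k, IsAffineOpen (TrivBasic.locus (s k)))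
    (hgen : ∀ k (S : Subring Γ(Y, TrivBasic.locus (s k))),
      (∀ c, BlowUpLib.strHom q (TrivBasic.locus (s k)) c ∈ S) →
      (∀ l b, AModX.res L (le_top : TrivBasic.locus (s k) ≤ ⊤) (s l) =
        b • AModX.res L (le_top : TrivBasic.locus (s k) ≤ ⊤) (s k) → b ∈ S) → S = ⊤) :
    ∃ r : Y ⟶ CohB1.ProjSpace n R, IsClosedImmersion r ∧ r ≫ CohB1.ProjSpace.toSpec n R = q ∧
      Nonempty ((Scheme.Modules.pullback r).obj (Twist.twistProjSpace n R 1) ≅ L) := by
  have hs : ProjUP.GeneratedBy L s := fun x => by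
    obtain ⟨i, hi⟩ := hcov x
    refine eq_top_iff.2 fun z _ => ?_
    obtain ⟨c, hc⟩ := ((TrivBasic.isFrame_res_of_le_locus (le_refl (TrivBasic.locus (s i)))).germ_bijective hi).2 z
    rw [← hc]
    refine Submodule.smul_mem _ c (Submodule.subset_span ⟨i, ?_⟩)
    exact (InvX.germ_res' (le_top : TrivBasic.locus (s i) ≤ ⊤) hi (s i)).symm
  obtain ⟨r, hr, τ, hτ⟩ := S3572.result n q L hL s hs
  refine ⟨r, ?_, hr, ⟨τ⟩⟩
  let D : Fin (n + 1) → (CohB1.ProjSpace n R).Opens := fun i =>
    Proj.basicOpen (CohB1.polyGrading n R) (MvPolynomial.X i)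
  have hpre : ∀ i, r ⁻¹ᵁ D i = TrivBasic.locus (s i) := fun i => AmpleEmbed.preimage_chart r τ i (hτ i)
  refine IsZariskiLocalAtTarget.of_iSup_eq_top (P := @IsClosedImmersion) D
    (AmpleEmbed.iSup_basicOpen_X n R) fun i => ?_
  refine RelVA16.isClosedImmersion_restrict_of_surjective r
    (Proj.isAffineOpen_basicOpen _ _ (ProjPt.X_mem _) one_pos) (haff i) (hpre i) ?_
  refine RingHom.range_eq_top.1 (hgen i _ (fun c => ?_) fun l b hb => ?_)
  · refine ⟨(CohB1.ProjSpace.toSpec n R).appLE ⊤ (D i) le_top ((Scheme.ΓSpecIso (CommRingCat.of R)).inv c), ?_⟩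
    rw [← CommRingCat.comp_apply, Scheme.Hom.appLE_comp_appLE]
    simp only [hr]
    rfl
  · refine ⟨(Proj.awayToSection (CohB1.polyGrading n R) (MvPolynomial.X i)).hom
      (Away.mk (CohB1.polyGrading n R) (ProjPt.X_mem i) 1 (MvPolynomial.X l)
        (by rw [one_smul]; exact ProjPt.X_mem _)), ?_⟩
    exact AmpleEmbed.ratioOf_eq r τ i l (hτ i) (hτ l) (hpre i).ge b hb

end Groth.Agent.BlowP1
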